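import Groth.Agent.WeilResLib.Dense.Ring
import Groth.Prelude.Def_MoreMor

/-!
# Schematic density in the fibres, in terms of affine charts
-/

set_option autoImplicit false
set_option backward.isDefEq.respectTransparency false

noncomputable section

universe u

open CategoryTheory CategoryTheory.Limits AlgebraicGeometry
open scoped TensorProduct

namespace Groth.Agent.WeilRes

variable {S X : Scheme.{u}} {f : X ⟶ S} {κ : Type u} {Z : κ → Scheme.{u}} (z : ∀ i, Z i ⟶ X)

/-- Schematic density of a family in every fibre. -/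
def FibDense (f : X ⟶ S) (z : ∀ i, Z i ⟶ X) : Prop :=
  ∀ (s : S) (V : (f.fiber s).Opens) (t : Γ(f.fiber s, V)),
    (∀ i, (MoreMor.fiberMap (z i) f s).app V t = 0) → t = 0

/-- An affine chart of `W` lying over a chart of `X`. -/
structure PieceOver {R B : Type u} [CommRing R] [CommRing B] [Algebra R B]
    (jX : Spec (CommRingCat.of B) ⟶ X) {W : Scheme.{u}} (w : W ⟶ X) where
  D : W.Opens
  aff : IsAffineOpen D
  φ : B →+* Γ(W, D)
  hφ : Spec.map (CommRingCat.ofHom φ) ≫ jX = aff.fromSpec ≫ w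

namespace PieceOver

variable {R B : Type u} [CommRing R] [CommRing B] [Algebra R B] {jX : Spec (CommRingCat.of B) ⟶ X}
  {W : Scheme.{u}} {w : W ⟶ X} (d : PieceOver (R := R) jX w)

/-- The coordinate ring of a piece. -/
abbrev C : Type u := Γ(W, d.D)

instance : Algebra R d.C := (d.φ.comp (algebraMap R B)).toAlgebra

/-- The comorphism of a piece. -/
def alg : B →ₐ[R] d.C where
  toRingHom := d.φ
  commutes' _ := rfl

end PieceOver

theorem exists_piece {R B : Type u} [CommRing R] [CommRing B] [Algebra R B]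
    (jX : Spec (CommRingCat.of B) ⟶ X) [IsOpenImmersion jX] {W : Scheme.{u}} (w : W ⟶ X) (a : W)
    (ha : w a ∈ Set.range jX) : ∃ d : PieceOver (R := R) jX w, a ∈ Set.range d.aff.fromSpec := by
  obtain ⟨D, hD, haD, hDV⟩ := exists_isAffineOpen_mem_and_subset (X := W) (x := a)
    (U := w ⁻¹ᵁ jX.opensRange) ha
  have hrange : Set.range (hD.fromSpec ≫ w) ⊆ Set.range jX := by
    rintro _ ⟨q, rfl⟩
    rw [Scheme.Hom.comp_apply]
    exact hDV (hD.range_fromSpec.le ⟨q, rfl⟩)
  obtain ⟨φ, hφ⟩ := Spec.map_surjective (IsOpenImmersion.lift jX _ hrange)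
  refine ⟨⟨D, hD, φ.hom, ?_⟩, hD.range_fromSpec.ge haD⟩
  rw [show Spec.map (CommRingCat.ofHom φ.hom) = Spec.map φ from rfl, hφ, IsOpenImmersion.lift_fac]

theorem isIso_comp_residue {R : Type u} [CommRing R] (jS : Spec (CommRingCat.of R) ⟶ S) [IsOpenImmersion jS]
    (p : PrimeSpectrum R) :
    ∃ σ : Spec (CommRingCat.of p.asIdeal.ResidueField) ⟶ Spec (S.residueField (jS p)), IsIso σ ∧
      σ ≫ S.fromSpecResidueField (jS p) =
        Spec.map (CommRingCat.ofHom (algebraMap R p.asIdeal.ResidueField)) ≫ jS := by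
  let I := Scheme.Spec.residueFieldIso (CommRingCat.of R) p
  refine ⟨Spec.map I.hom ≫ Spec.map (jS.residueFieldMap p), inferInstance, ?_⟩
  rw [Category.assoc, Scheme.Hom.SpecMap_residueFieldMap_fromSpecResidueField,
    ← Scheme.Spec.map_residueFieldIso_inv_eq_fromSpecResidueField]
  simp only [← Category.assoc, ← Spec.map_comp]
  congr 2
  simp [I]

/-- The chart of a fibre given by an affine chart. -/
theorem exists_fibreChart {W : Scheme.{u}} (g : W ⟶ S) {R B : Type u} [CommRing R] [CommRing B] [Algebra R B]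
    (jS : Spec (CommRingCat.of R) ⟶ S) [IsOpenImmersion jS] (jW : Spec (CommRingCat.of B) ⟶ W) [IsOpenImmersion jW]
    (hcomm : jW ≫ g = Spec.map (CommRingCat.ofHom (algebraMap R B)) ≫ jS) (K : Type u) [CommRing K] [Algebra R K]
    (s : S) (σ : Spec (CommRingCat.of K) ⟶ Spec (S.residueField s)) [IsIso σ]
    (hσ : σ ≫ S.fromSpecResidueField s = Spec.map (CommRingCat.ofHom (algebraMap R K)) ≫ jS) :
    ∃ e : Spec (CommRingCat.of (K ⊗[R] B)) ⟶ g.fiber s, IsOpenImmersion e ∧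
      e ≫ g.fiberι s =
        Spec.map (CommRingCat.ofHom (Algebra.TensorProduct.includeRight : B →ₐ[R] K ⊗[R] B).toRingHom) ≫ jW ∧
      e ≫ g.fiberToSpecResidueField s = Spec.map (CommRingCat.ofHom (algebraMap K (K ⊗[R] B))) ≫ σ ∧
      ∀ v, g.fiberι s v ∈ Set.range jW → v ∈ Set.range e := by
  let m : pullback (Spec.map (CommRingCat.ofHom (algebraMap R B))) (Spec.map (CommRingCat.ofHom (algebraMap R K))) ⟶
      pullback g (S.fromSpecResidueField s) :=
    pullback.map _ _ g (S.fromSpecResidueField s) jW σ jS hcomm.symm hσ.symm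
  haveI : IsOpenImmersion σ := inferInstance
  haveI : IsOpenImmersion m := inferInstanceAs (IsOpenImmersion (pullback.map ..))
  refine ⟨(pullbackSpecIso R K B).inv ≫ (pullbackSymmetry _ _).hom ≫ m, inferInstance, ?_, ?_, fun v hv => ?_⟩
  · show ((pullbackSpecIso R K B).inv ≫ (pullbackSymmetry _ _).hom ≫ m) ≫
      pullback.fst g (S.fromSpecResidueField s) = _
    simp only [m, Category.assoc, pullback.lift_fst, pullbackSymmetry_hom_comp_fst_assoc]
    exact pullbackSpecIso_inv_snd_assoc R K B jW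
  · show ((pullbackSpecIso R K B).inv ≫ (pullbackSymmetry _ _).hom ≫ m) ≫
      pullback.snd g (S.fromSpecResidueField s) = _
    simp only [m, Category.assoc, pullback.lift_snd, pullbackSymmetry_hom_comp_snd_assoc]
    exact pullbackSpecIso_inv_fst'_assoc R K B σ
  · have h1 : v ∈ Set.range m := (Scheme.Pullback.range_map _ _ _ _ _ _ _ _ _).ge ⟨hv, σ.surjective _⟩
    obtain ⟨w, rfl⟩ := h1
    refine ⟨((pullbackSymmetry (Spec.map (CommRingCat.ofHom (algebraMap R K)))
      (Spec.map (CommRingCat.ofHom (algebraMap R B)))).inv ≫ (pullbackSpecIso R K B).hom) w, ?_⟩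
    rw [← Scheme.Hom.comp_apply]
    simp only [Category.assoc, Iso.hom_inv_id_assoc, Iso.inv_hom_id_assoc]
    rfl

theorem ΓSpecIso_inv_app {A A' : Type u} [CommRing A] [CommRing A'] (φ : A →+* A') (x : A) :
    (Spec.map (CommRingCat.ofHom φ)).appTop.hom ((Scheme.ΓSpecIso (CommRingCat.of A)).inv.hom x) =
      (Scheme.ΓSpecIso (CommRingCat.of A')).inv.hom (φ x) := by
  have := Scheme.ΓSpecIso_inv_naturality (CommRingCat.ofHom φ)
  exact (DFunLike.congr_fun (congrArg CommRingCat.Hom.hom this) x).symm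

/-- Density in the fibres gives joint injectivity on the fibres of charts. -/
theorem FibDense.dense_chart (h : FibDense f z) {R B : Type u} [CommRing R] [CommRing B] [Algebra R B]
    (jS : Spec (CommRingCat.of R) ⟶ S) [IsOpenImmersion jS] (jX : Spec (CommRingCat.of B) ⟶ X) [IsOpenImmersion jX]
    (hcomm : jX ≫ f = Spec.map (CommRingCat.ofHom (algebraMap R B)) ≫ jS) (p : Ideal R) [hp : p.IsPrime]
    (x : p.ResidueField ⊗[R] B)
    (hx : ∀ (i : κ) (d : PieceOver (R := R) jX (z i)),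
      Algebra.TensorProduct.map (AlgHom.id R p.ResidueField) d.alg x = 0) :
    x = 0 := by
  let K := p.ResidueField
  let s : S := jS (⟨p, hp⟩ : PrimeSpectrum R)
  obtain ⟨σ, hσ, hσf⟩ := isIso_comp_residue jS ⟨p, hp⟩
  obtain ⟨e, he, he₁, he₂, -⟩ := exists_fibreChart f jS jX hcomm K s σ hσf
  let V : (f.fiber s).Opens := e ''ᵁ ⊤
  let x' := (Scheme.ΓSpecIso (CommRingCat.of (K ⊗[R] B))).inv.hom x
  let t : Γ(f.fiber s, V) := (e.appIso ⊤).inv.hom x'
  suffices ht : t = 0 by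
    have h2 : x' = 0 := (map_eq_zero_iff _ (ConcreteCategory.bijective_of_isIso (e.appIso ⊤).inv).1).1 ht
    exact (map_eq_zero_iff _ (ConcreteCategory.bijective_of_isIso (Scheme.ΓSpecIso _).inv).1).1 h2
  refine h s V t fun i => ?_
  let fm : (z i ≫ f).fiber s ⟶ f.fiber s := MoreMor.fiberMap (z i) f s
  have hpiece : ∀ a : (fm ⁻¹ᵁ V : ((z i ≫ f).fiber s).Opens), ∃ U : ((z i ≫ f).fiber s).Opens, (a : (z i ≫ f).fiber s) ∈ U ∧
      ∃ hU : U ≤ fm ⁻¹ᵁ V, fm.appLE V U hU t = 0 := by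
    rintro ⟨a, ha⟩
    obtain ⟨q, -, hq⟩ : fm a ∈ e ''ᵁ ⊤ := ha
    have hza : z i ((z i ≫ f).fiberι s a) ∈ Set.range jX := by
      rw [← Scheme.Hom.comp_apply,
        show (z i ≫ f).fiberι s ≫ z i = fm ≫ f.fiberι s from (pullback.lift_fst _ _ _).symm]
      rw [Scheme.Hom.comp_apply, ← hq]
      show (e ≫ f.fiberι s) q ∈ _
      rw [he₁]
      exact ⟨_, rfl⟩
    obtain ⟨d, hd⟩ := exists_piece (R := R) jX (z i) _ hza
    have hcd : d.aff.fromSpec ≫ z i ≫ f = Spec.map (CommRingCat.ofHom (algebraMap R d.C)) ≫ jS := by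
      rw [← Category.assoc, ← d.hφ, Category.assoc, hcomm, ← Category.assoc, ← Spec.map_comp]
      rfl
    obtain ⟨eD, heD, hD₁, hD₂, hDr⟩ := exists_fibreChart (z i ≫ f) jS (B := d.C) d.aff.fromSpec hcd K s σ hσf
    let ψ : K ⊗[R] B →+* K ⊗[R] d.C := (Algebra.TensorProduct.map (AlgHom.id R K) d.alg).toRingHom
    have hfac : eD ≫ fm = Spec.map (CommRingCat.ofHom ψ) ≫ e := by
      refine pullback.hom_ext ?_ ?_
      · show (eD ≫ fm) ≫ f.fiberι s = (Spec.map _ ≫ e) ≫ f.fiberι s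
        rw [Category.assoc, Category.assoc, he₁, show fm ≫ f.fiberι s = (z i ≫ f).fiberι s ≫ z i from pullback.lift_fst _ _ _,
          reassoc_of% hD₁, ← d.hφ, ← Category.assoc, ← Category.assoc (Spec.map _), ← Spec.map_comp, ← Spec.map_comp]
        congr 2
      · show (eD ≫ fm) ≫ f.fiberToSpecResidueField s = (Spec.map _ ≫ e) ≫ f.fiberToSpecResidueField s
        rw [Category.assoc, Category.assoc, he₂,
          show fm ≫ f.fiberToSpecResidueField s = (z i ≫ f).fiberToSpecResidueField s from pullback.lift_snd _ _ _,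
          hD₂, ← Category.assoc (Spec.map _), ← Spec.map_comp]
        congr 2
        exact CommRingCat.hom_ext (RingHom.ext fun r =>
          ((Algebra.TensorProduct.map (AlgHom.id K K) d.alg).commutes r).symm)
    have hle : (⊤ : (Spec (CommRingCat.of (K ⊗[R] d.C))).Opens) ≤ eD ⁻¹ᵁ fm ⁻¹ᵁ V := fun w _ =>
      ⟨Spec.map (CommRingCat.ofHom ψ) w, trivial, by
        rw [← Scheme.Hom.comp_apply, hfac]; rfl⟩
    have hU : eD ''ᵁ ⊤ ≤ fm ⁻¹ᵁ V := fun _ ⟨w, _, hw⟩ => hw ▸ hle (x := w) trivial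
    refine ⟨eD ''ᵁ ⊤, ?_, hU, ?_⟩
    · obtain ⟨w, hw⟩ := hDr a hd
      exact ⟨w, trivial, hw⟩
    · refine (map_eq_zero_iff _ (ConcreteCategory.bijective_of_isIso (eD.appIso ⊤).hom).1).1 ?_
      rw [Scheme.Hom.appIso_hom', ← CommRingCat.comp_apply, Scheme.Hom.appLE_comp_appLE]
      have h3 : ∀ (F : Spec (CommRingCat.of (K ⊗[R] d.C)) ⟶ f.fiber s) (hF : ⊤ ≤ F ⁻¹ᵁ V),
          F = Spec.map (CommRingCat.ofHom ψ) ≫ e →
          (F.appLE V ⊤ hF).hom t = (Scheme.ΓSpecIso (CommRingCat.of (K ⊗[R] d.C))).inv.hom (ψ x) := by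
        rintro F hF rfl
        have hV : (⊤ : (Spec (CommRingCat.of (K ⊗[R] B))).Opens) ≤ e ⁻¹ᵁ V := fun w _ => ⟨w, trivial, rfl⟩
        rw [← Scheme.Hom.appLE_comp_appLE (Spec.map (CommRingCat.ofHom ψ)) e V ⊤ ⊤ hV (fun _ _ => trivial),
          CommRingCat.comp_apply]
        have h4 : (e.appLE V ⊤ hV).hom t = x' := by
          show ((e.appIso ⊤).inv ≫ e.appLE (e ''ᵁ ⊤) ⊤ hV).hom x' = x'
          rw [Scheme.Hom.appIso_inv_appLE, Subsingleton.elim (homOfLE _).op (𝟙 _), CategoryTheory.Functor.map_id]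
          rfl
        rw [h4]
        refine Eq.trans ?_ (ΓSpecIso_inv_app ψ x)
        exact congrArg (fun g => (CommRingCat.Hom.hom g) x') (Scheme.Hom.app_eq_appLE (Spec.map (CommRingCat.ofHom ψ))).symm
      rw [h3 _ _ hfac, show ψ x = 0 from hx i d, map_zero]
  choose U hUa hUle hU0 using hpiece
  refine TopCat.Sheaf.eq_of_locally_eq' ((z i ≫ f).fiber s).sheaf U (fm ⁻¹ᵁ V) (fun a => homOfLE (hUle a))
    (fun a ha => TopologicalSpace.Opens.mem_iSup.2 ⟨⟨a, ha⟩, hUa _⟩) _ _ (fun a => ?_)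
  exact (hU0 a).trans (map_zero _).symm

end Groth.Agent.WeilRes
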