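import Groth.Agent.WeilResLib.Dense.Main
import Mathlib.CategoryTheory.Monoidal.Cartesian.Over

/-!
# The kernels of the power maps of a commutative group scheme
-/

set_option autoImplicit false
set_option backward.isDefEq.respectTransparency false

noncomputable section

universe u

open CategoryTheory CategoryTheory.Limits MonoidalCategory CartesianMonoidalCategory AlgebraicGeometry
open scoped MonObj

namespace Groth.Agent.WeilRes

variable {S : Scheme.{u}} (H : Over S) [GrpObj H]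

/-- The kernel of the `n`-th power map. -/
abbrev torZ (n : ℕ) : Scheme.{u} := pullback η[H].left (𝟙 H ^ n : H ⟶ H).left

/-- The inclusion of the kernel of the `n`-th power map. -/
abbrev torι (n : ℕ) : torZ H n ⟶ H.left := pullback.snd η[H].left (𝟙 H ^ n : H ⟶ H).left

variable {H}

theorem pow_eq_one_iff {X : Over S} (h : X ⟶ H) (n : ℕ) :
    h ^ n = 1 ↔ ∃ w : X.left ⟶ torZ H n, w ≫ torι H n = h.left := by
  have h1 : (1 : X ⟶ H).left = X.hom ≫ η[H].left := by
    rw [Hom.one_def, Over.comp_left]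
    exact congrArg (· ≫ η[H].left) ((Category.comp_id _).symm.trans (Over.w (toUnit X)))
  have h2 : (h ^ n : X ⟶ H).left = h.left ≫ (𝟙 H ^ n : H ⟶ H).left := by
    rw [← Over.comp_left, MonObj.comp_pow, Category.comp_id]
  constructor
  · intro e
    exact ⟨pullback.lift X.hom h.left (by rw [← h1, ← h2, e]), pullback.lift_snd _ _ _⟩
  · rintro ⟨w, hw⟩
    refine Over.OverMorphism.ext (h2.trans ?_)
    have hη : η[H].left ≫ H.hom = (𝟙_ (Over S)).hom := Over.w η[H]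
    have h3 : w ≫ pullback.fst _ _ = X.hom := by
      calc w ≫ pullback.fst η[H].left (𝟙 H ^ n : H ⟶ H).left
          = (w ≫ pullback.fst _ _) ≫ η[H].left ≫ H.hom := by rw [hη]; exact (Category.comp_id _).symm
        _ = w ≫ (torι H n ≫ (𝟙 H ^ n : H ⟶ H).left) ≫ H.hom := by
              simp only [Category.assoc]
              exact congrArg (w ≫ ·) (pullback.condition_assoc H.hom)
        _ = X.hom := by rw [Category.assoc, Over.w, ← Category.assoc, hw, Over.w]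
    rw [h1, ← h3, Category.assoc, ← hw, Category.assoc]
    exact congrArg (w ≫ ·) pullback.condition.symm

theorem torι_le_mul (m n : ℕ) :
    (∃ w : torZ H m ⟶ torZ H (m * n), w ≫ torι H (m * n) = torι H m) := by
  let Z : Over S := Over.mk (torι H m ≫ H.hom)
  let h : Z ⟶ H := Over.homMk (torι H m) rfl
  have h1 : h ^ m = 1 := (pow_eq_one_iff h m).2 ⟨𝟙 _, Category.id_comp _⟩
  exact (pow_eq_one_iff h (m * n)).1 (by rw [pow_mul, h1, one_pow])

/-- Weil restriction along a commutative group with a dense family of finite flat torsion subgroups. -/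
theorem exists_closed_of_torsion_dense [LocallyOfFiniteType H.hom] (E : Set ℕ) (hE : E.Nonempty)
    (hEmul : ∀ m ∈ E, ∀ n ∈ E, m * n ∈ E)
    (ha : ∀ n ∈ E, IsFinite (torι H n ≫ H.hom) ∧ Flat (torι H n ≫ H.hom))
    (hb : ∀ (s : S) (V : (H.hom.fiber s).Opens) (t : Γ(H.hom.fiber s, V)),
      (∀ n ∈ E, (MoreMor.fiberMap (torι H n) H.hom s).app V t = 0) → t = 0)
    {G X₀ Y : Scheme.{u}} [IsLocallyNoetherian G] (a : G ⟶ S) (q : pullback H.hom a ⟶ X₀) (y : Y ⟶ X₀)
    [IsClosedImmersion y] :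
    (∃ (T : Scheme.{u}) (t : T ⟶ G), IsClosedImmersion t ∧
      ∀ ⦃T' : Scheme.{u}⦄ (g : T' ⟶ G), (∃ g' : T' ⟶ T, g' ≫ t = g) ↔ InQ H.hom a q y g) ∧
    (AlgebraicGeometry.IsNoetherian G → ∃ n ∈ E, ∀ ⦃T : Scheme.{u}⦄ (g : T ⟶ G),
      InQ H.hom a q y g ↔ InQ (torι H n ≫ H.hom) a (zb H.hom (torι H n) a ≫ q) y g) := by
  haveI : Nonempty (ULift.{u} E) := let ⟨n, hn⟩ := hE; ⟨⟨⟨n, hn⟩⟩⟩
  obtain ⟨h1, h2⟩ := exists_closed_of_dense (κ := ULift.{u} E) (fun i => torι H i.down.1) H.hom a q (y := y)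
    (fun i => (ha _ i.down.2).1) (fun i => (ha _ i.down.2).2)
    (fun i i' => ⟨⟨⟨_, hEmul _ i.down.2 _ i'.down.2⟩⟩, torι_le_mul _ _, by
      show ∃ w : torZ H i'.down.1 ⟶ torZ H (i.down.1 * i'.down.1), w ≫ torι H _ = torι H _
      rw [Nat.mul_comm]
      exact torι_le_mul _ _⟩)
    (fun s V t ht => hb s V t fun n hn => ht ⟨⟨n, hn⟩⟩)
  exact ⟨h1, fun hG => let ⟨k, hk⟩ := h2 hG; ⟨k.down.1, k.down.2, hk⟩⟩

theorem inQ_id_iff {S X X₀ Y : Scheme.{u}} (f : X ⟶ S) (w : X ⟶ X₀) (q : pullback f (𝟙 S) ⟶ X₀)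
    (hq : q = pullback.fst _ _ ≫ w) (y : Y ⟶ X₀) {T : Scheme.{u}} (g : T ⟶ S) :
    InQ f (𝟙 S) q y g ↔ ∃ l : pullback f g ⟶ Y, l ≫ y = pullback.fst f g ≫ w := by
  have key : ∀ (g' : T ⟶ S), g' = g → ((∃ l : pullback f g' ⟶ Y, l ≫ y = pullback.fst f g' ≫ w) ↔
      ∃ l : pullback f g ⟶ Y, l ≫ y = pullback.fst f g ≫ w) := by rintro _ rfl; rfl
  refine Iff.trans ?_ (key (g ≫ 𝟙 S) (Category.comp_id g))
  subst hq
  simp only [InQ, ← Category.assoc, pullback.lift_fst]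

end Groth.Agent.WeilRes
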