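import Groth.Agent.WeilResLib.Dense.Fibre
import Groth.Agent.WeilResLib.Closed

/-!
# Weil restriction of a closed subscheme along a morphism with a dense family of finite flat subschemes
-/

set_option autoImplicit false
set_option backward.isDefEq.respectTransparency false

noncomputable section

universe u

open CategoryTheory CategoryTheory.Limits AlgebraicGeometry
open scoped TensorProduct

namespace Groth.Agent.WeilRes

variable {S X : Scheme.{u}}

/-- The base change of a morphism over `S`. -/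
abbrev zb (f : X ⟶ S) {W : Scheme.{u}} (w : W ⟶ X) {T : Scheme.{u}} (b : T ⟶ S) :
    pullback (w ≫ f) b ⟶ pullback f b :=
  pullback.map (w ≫ f) b f b w (𝟙 _) (𝟙 _) (by simp) (by simp)

/-- The ideal cut out on an affine scheme by a closed immersion. -/
theorem exists_closed_ideal {X₀ Y : Scheme.{u}} (y : Y ⟶ X₀) [IsClosedImmersion y] {B : Type u} [CommRing B]
    (j : Spec (CommRingCat.of B) ⟶ X₀) :
    ∃ J : Ideal B, ∀ (A : Type u) [CommRing A] (ψ : B →+* A),
      (∃ l, l ≫ y = sp ψ ≫ j) ↔ J ≤ RingHom.ker ψ := by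
  obtain ⟨J, θ, hθ⟩ := IsClosedImmersion.Spec_iff.1 (inferInstance : IsClosedImmersion (pullback.snd y j))
  refine ⟨J, fun A _ ψ => ⟨?_, fun h => ?_⟩⟩
  · rintro ⟨l, hl⟩ x hx
    let l' := pullback.lift l (sp ψ) hl ≫ θ.hom
    obtain ⟨ψ', hψ'⟩ := Spec.map_surjective l'
    have h1 : sp ψ = Spec.map (CommRingCat.ofHom (Ideal.Quotient.mk J) ≫ ψ') := by
      rw [Spec.map_comp, hψ']
      show _ = (pullback.lift l (sp ψ) hl ≫ θ.hom) ≫ _
      rw [Category.assoc]
      exact ((congrArg (pullback.lift l (sp ψ) hl ≫ ·) hθ.symm).trans (pullback.lift_snd _ _ _)).symm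
    have h2 : ψ x = ψ'.hom (Ideal.Quotient.mk J x) :=
      congrArg (fun m => (CommRingCat.Hom.hom m) x) (Spec.map_injective h1)
    rw [RingHom.mem_ker, h2, Ideal.Quotient.eq_zero_iff_mem.2 hx, map_zero]
  · refine ⟨sp (Ideal.Quotient.lift J ψ h) ≫ θ.inv ≫ pullback.fst _ _, ?_⟩
    rw [Category.assoc, Category.assoc, pullback.condition, ← Category.assoc θ.inv,
      show θ.inv ≫ pullback.snd y j = sp (Ideal.Quotient.mk J) from by rw [hθ, Iso.inv_hom_id_assoc],
      ← Category.assoc, sp_comp, Ideal.Quotient.lift_comp_mk]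

theorem exists_product_chart (f : X ⟶ S) {T : Scheme.{u}} (b : T ⟶ S) {R A B : Type u} [CommRing R] [CommRing A]
    [CommRing B] [Algebra R A] [Algebra R B] (jS : Spec (CommRingCat.of R) ⟶ S) [Mono jS]
    (jX : Spec (CommRingCat.of B) ⟶ X) (jT : Spec (CommRingCat.of A) ⟶ T)
    (hX : jX ≫ f = sp (algebraMap R B) ≫ jS) (hT : jT ≫ b = sp (algebraMap R A) ≫ jS) :
    ∃ m : Spec (CommRingCat.of (A ⊗[R] B)) ⟶ pullback f b,
      ([IsOpenImmersion jX] → [IsOpenImmersion jT] → IsOpenImmersion m ∧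
        ∀ v, pullback.fst f b v ∈ Set.range jX → pullback.snd f b v ∈ Set.range jT → v ∈ Set.range m) ∧
      m ≫ pullback.fst _ _ = sp (Algebra.TensorProduct.includeRight : B →ₐ[R] A ⊗[R] B).toRingHom ≫ jX ∧
      m ≫ pullback.snd _ _ = sp (algebraMap A (A ⊗[R] B)) ≫ jT := by
  let m₀ : pullback (sp (algebraMap R B)) (sp (algebraMap R A)) ⟶ pullback f b :=
    pullback.map _ _ _ _ jX jT jS hX.symm hT.symm
  refine ⟨(pullbackSpecIso R A B).inv ≫ (pullbackSymmetry _ _).hom ≫ m₀, fun {h1 h2} => ?_, ?_, ?_⟩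
  · haveI : IsOpenImmersion m₀ := inferInstanceAs (IsOpenImmersion (pullback.map ..))
    refine ⟨inferInstance, fun v hv hv' => ?_⟩
    have h1 : v ∈ Set.range m₀ := (Scheme.Pullback.range_map _ _ _ _ _ _ _ _ _).ge ⟨hv, hv'⟩
    obtain ⟨w, rfl⟩ := h1
    refine ⟨((pullbackSymmetry (Spec.map (CommRingCat.ofHom (algebraMap R A)))
      (Spec.map (CommRingCat.ofHom (algebraMap R B)))).inv ≫ (pullbackSpecIso R A B).hom) w, ?_⟩
    rw [← Scheme.Hom.comp_apply]
    simp only [Category.assoc, Iso.hom_inv_id_assoc, Iso.inv_hom_id_assoc]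
  · simp only [m₀, Category.assoc, pullback.lift_fst, pullbackSymmetry_hom_comp_fst_assoc]
    exact pullbackSpecIso_inv_snd_assoc R A B jX
  · simp only [m₀, Category.assoc, pullback.lift_snd, pullbackSymmetry_hom_comp_snd_assoc]
    exact pullbackSpecIso_inv_fst'_assoc R A B jT

variable {κ : Type u} {Z : κ → Scheme.{u}} (z : ∀ i, Z i ⟶ X)

/-- A fibrewise schematically dense family of flat `S`-schemes stays schematically dense after any locally
Noetherian base change. -/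
theorem isIso_of_dense (f : X ⟶ S) [LocallyOfFiniteType f] (hflat : ∀ i, Flat (z i ≫ f)) (h : FibDense f z)
    {T Y : Scheme.{u}} [IsLocallyNoetherian T] (b : T ⟶ S) (y : Y ⟶ pullback f b) [IsClosedImmersion y]
    (hy : ∀ i, ∃ l, l ≫ y = zb f (z i) b) : ∃ l, l ≫ y = 𝟙 (pullback f b) := by
  have hloc : ∀ v : ↥(pullback f b), ∃ (W : Scheme.{u}) (m : W ⟶ pullback f b),
      IsOpenImmersion m ∧ v ∈ Set.range m ∧ ∃ l, l ≫ y = m := by
    intro v
    obtain ⟨VS, hVS, hs, -⟩ := exists_isAffineOpen_mem_and_subset (X := S)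
      (x := (pullback.fst f b ≫ f) v) (U := ⊤) trivial
    obtain ⟨U, hU, hvU, hUS⟩ := exists_isAffineOpen_mem_and_subset (X := T) (x := pullback.snd f b v)
      (U := b ⁻¹ᵁ VS) (by show (pullback.snd f b ≫ b) v ∈ VS; rwa [← pullback.condition])
    obtain ⟨VX, hVX, hvX, hXS⟩ := exists_isAffineOpen_mem_and_subset (X := X) (x := pullback.fst f b v)
      (U := f ⁻¹ᵁ VS) hs
    let R : Type u := Γ(S, VS)
    let A : Type u := Γ(T, U)
    let B : Type u := Γ(X, VX)
    letI : Algebra R A := (b.appLE VS U hUS).hom.toAlgebra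
    letI : Algebra R B := (f.appLE VS VX hXS).hom.toAlgebra
    haveI : IsNoetherianRing A := IsLocallyNoetherian.component_noetherian ⟨U, hU⟩
    haveI : Algebra.FiniteType R B := HasRingHomProperty.appLE @LocallyOfFiniteType f inferInstance ⟨VS, hVS⟩
      ⟨VX, hVX⟩ hXS
    let jS : Spec (CommRingCat.of R) ⟶ S := hVS.fromSpec
    let jX : Spec (CommRingCat.of B) ⟶ X := hVX.fromSpec
    let jT : Spec (CommRingCat.of A) ⟶ T := hU.fromSpec
    haveI : IsOpenImmersion jS := inferInstanceAs (IsOpenImmersion hVS.fromSpec)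
    haveI : IsOpenImmersion jX := inferInstanceAs (IsOpenImmersion hVX.fromSpec)
    haveI : IsOpenImmersion jT := inferInstanceAs (IsOpenImmersion hU.fromSpec)
    have hcX : jX ≫ f = sp (algebraMap R B) ≫ jS := (IsAffineOpen.SpecMap_appLE_fromSpec f hVS hVX hXS).symm
    have hcT : jT ≫ b = sp (algebraMap R A) ≫ jS := (IsAffineOpen.SpecMap_appLE_fromSpec b hVS hU hUS).symm
    obtain ⟨m, hm, hm₁, hm₂⟩ := exists_product_chart f b jS jX jT hcX hcT
    obtain ⟨hmo, hmr⟩ := hm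
    haveI := hmo
    refine ⟨_, m, hmo, hmr v (hVX.range_fromSpec.ge hvX) (hU.range_fromSpec.ge hvU), ?_⟩
    obtain ⟨J, hJ⟩ := exists_closed_ideal y m
    suffices hJ0 : J = ⊥ by
      obtain ⟨l, hl⟩ := (hJ _ (RingHom.id (A ⊗[R] B))).2 (hJ0 ▸ bot_le)
      refine ⟨l, hl.trans ?_⟩
      rw [show sp (RingHom.id (A ⊗[R] B)) = 𝟙 _ from Spec.map_id _, Category.id_comp]
    have hcd : ∀ d : Σ i, PieceOver (R := R) jX (z i),
        d.2.aff.fromSpec ≫ z d.1 ≫ f = sp (algebraMap R d.2.C) ≫ jS := fun d => by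
      rw [← Category.assoc, ← d.2.hφ, Category.assoc, hcX, ← Category.assoc, sp_comp]
      rfl
    haveI : ∀ d : Σ i, PieceOver (R := R) jX (z i), Module.Flat R d.2.C := fun d => by
      haveI := hflat d.1
      have hD : d.2.D ≤ (z d.1 ≫ f) ⁻¹ᵁ VS := fun x hx => by
        obtain ⟨w, rfl⟩ := d.2.aff.range_fromSpec.ge hx
        show (d.2.aff.fromSpec ≫ z d.1 ≫ f) w ∈ VS
        rw [hcd d]
        exact hVS.range_fromSpec.le ⟨_, rfl⟩
      have h1 := HasRingHomProperty.appLE @Flat (z d.1 ≫ f) inferInstance ⟨VS, hVS⟩ ⟨d.2.D, d.2.aff⟩ hD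
      have h2 : sp (algebraMap R d.2.C) = Spec.map ((z d.1 ≫ f).appLE VS d.2.D hD) := by
        rw [← cancel_mono jS, ← hcd d]
        exact (IsAffineOpen.SpecMap_appLE_fromSpec _ hVS d.2.aff hD).symm
      have h3 : algebraMap R d.2.C = ((z d.1 ≫ f).appLE VS d.2.D hD).hom :=
        congrArg CommRingCat.Hom.hom (Spec.map_injective h2)
      exact RingHom.flat_algebraMap_iff.1 (h3 ▸ h1)
    refine eq_bot_iff.2 fun x hx => local_zero_family (fun d : Σ i, PieceOver (R := R) jX (z i) => d.2.alg)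
      (fun p hp w hw => h.dense_chart z jS jX hcX p w fun i d => hw ⟨i, d⟩) A x fun d => ?_
    obtain ⟨mC, -, hC₁, hC₂⟩ := exists_product_chart (z d.1 ≫ f) b jS d.2.aff.fromSpec jT (hcd d) hcT
    obtain ⟨l, hl⟩ := hy d.1
    refine (hJ _ (Algebra.TensorProduct.map (AlgHom.id A A) d.2.alg).toRingHom).1 ⟨mC ≫ l, ?_⟩ hx
    rw [Category.assoc, hl]
    refine pullback.hom_ext ?_ ?_
    · simp only [Category.assoc, pullback.lift_fst, hm₁, reassoc_of% hC₁]
      rw [← d.2.hφ, ← Category.assoc, ← Category.assoc (sp _), sp_comp, sp_comp]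
      congr 2
    · simp only [Category.assoc, pullback.lift_snd, Category.comp_id, hm₂, hC₂]
      rw [← Category.assoc, sp_comp]
      exact congrArg (fun g => sp g ≫ jT)
        (Algebra.TensorProduct.map (AlgHom.id A A) d.2.alg).comp_algebraMap.symm
  choose W m hm hv hl using hloc
  exact factors_of_cover y
    { I₀ := ↥(pullback f b)
      X := W
      f := m
      mem₀ := by
        rw [Scheme.presieve₀_mem_precoverage_iff]
        exact ⟨fun v => ⟨v, hv v⟩, hm⟩ } (𝟙 _) fun v => by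
    obtain ⟨l, hl⟩ := hl v
    exact ⟨l, hl.trans (Category.comp_id _).symm⟩

/-- The condition that the pullback of a finite flat scheme factors through a closed subscheme is closed. -/
theorem exists_ideal_of_finite_flat {X₀ Y : Scheme.{u}} (y : Y ⟶ X₀) [IsClosedImmersion y] {P : Type u} [CommRing P]
    [IsNoetherianRing P] {W : Scheme.{u}} (π : W ⟶ Spec (CommRingCat.of P)) [IsFinite π] [Flat π] (w : W ⟶ X₀) :
    ∃ c : Ideal P, ∀ (P' : Type u) [CommRing P'] (φ : P →+* P'),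
      (∃ l : pullback π (sp φ) ⟶ Y, l ≫ y = pullback.fst _ _ ≫ w) ↔ c ≤ RingHom.ker φ := by
  haveI : IsAffine W := isAffine_of_isAffineHom π
  let C : Type u := Γ(W, ⊤)
  let θ : W ≅ Spec (CommRingCat.of C) := W.isoSpec
  obtain ⟨χ, hχ⟩ := Spec.map_surjective (θ.inv ≫ π)
  letI : Algebra P C := χ.hom.toAlgebra
  have hπ : θ.inv ≫ π = sp (algebraMap P C) := hχ.symm
  haveI : Module.Finite P C := by
    have : IsFinite (sp (algebraMap P C)) := hπ ▸ inferInstance
    exact RingHom.finite_algebraMap.1 ((IsFinite.SpecMap_iff _).1 this)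
  haveI : Module.Flat P C := by
    have : Flat (sp (algebraMap P C)) := hπ ▸ inferInstance
    exact RingHom.flat_algebraMap_iff.1 ((HasRingHomProperty.Spec_iff (P := @Flat)).1 this)
  haveI : Module.FinitePresentation P C := Module.finitePresentation_of_finite P C
  haveI : Module.Projective P C := Module.Flat.projective_of_finitePresentation
  obtain ⟨J, hJ⟩ := exists_closed_ideal y (θ.inv ≫ w)
  refine ⟨⨆ x ∈ J, coef (R := P) x, fun P' _ φ => ?_⟩
  letI := φ.toAlgebra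
  refine Iff.trans ?_ ((hJ _ (Algebra.TensorProduct.includeRight : C →ₐ[P] P' ⊗[P] C).toRingHom).trans
    ((forall₂_congr fun x _ => (coef_le_iff (R := P) x P').symm).trans (iSup₂_le_iff).symm))
  let e : pullback π (sp φ) ≅ Spec (CommRingCat.of (P' ⊗[P] C)) :=
    asIso (pullback.map π (sp φ) (sp (algebraMap P C)) (sp (algebraMap P P')) θ.hom (𝟙 _) (𝟙 _)
      (by rw [← hπ, Iso.hom_inv_id_assoc, Category.comp_id]) (by simp; rfl)) ≪≫
      pullbackSymmetry _ _ ≪≫ pullbackSpecIso P P' C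
  have he : e.hom ≫ sp (Algebra.TensorProduct.includeRight : C →ₐ[P] P' ⊗[P] C).toRingHom =
      pullback.fst π (sp φ) ≫ θ.hom := by
    simp only [e, Iso.trans_hom, asIso_hom, Category.assoc]
    erw [pullbackSpecIso_hom_snd, pullbackSymmetry_hom_comp_snd, pullback.lift_fst]
  constructor
  · rintro ⟨l, hl⟩
    refine ⟨e.inv ≫ l, ?_⟩
    rw [Category.assoc, hl, Iso.inv_comp_eq, reassoc_of% he, Iso.hom_inv_id_assoc]
  · rintro ⟨l, hl⟩
    refine ⟨e.hom ≫ l, ?_⟩
    rw [Category.assoc, hl, reassoc_of% he, Iso.hom_inv_id_assoc]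

section Weil

variable {G X₀ Y : Scheme.{u}}

/-- Base change of `pullback f a` along `g`. -/
abbrev bc (f : X ⟶ S) (a : G ⟶ S) {T : Scheme.{u}} (g : T ⟶ G) : pullback f (g ≫ a) ⟶ pullback f a :=
  pullback.lift (pullback.fst _ _) (pullback.snd _ _ ≫ g) (by rw [pullback.condition, Category.assoc])

/-- The pullback of `X` to `T` is carried into `Y` by `q`. -/
def InQ (f : X ⟶ S) (a : G ⟶ S) (q : pullback f a ⟶ X₀) (y : Y ⟶ X₀) ⦃T : Scheme.{u}⦄ (g : T ⟶ G) : Prop :=
  ∃ l : pullback f (g ≫ a) ⟶ Y, l ≫ y = bc f a g ≫ q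

variable (f : X ⟶ S) (a : G ⟶ S) (q : pullback f a ⟶ X₀) (y : Y ⟶ X₀)

theorem inQ_iff_inY {T : Scheme.{u}} (g : T ⟶ G) :
    InQ f a q y g ↔ InY (pullback.snd f a) (pullback.snd y q) g := by
  have he : (pullbackLeftPullbackSndIso f a g).hom ≫ bc f a g = pullback.fst (pullback.snd f a) g := by
    refine pullback.hom_ext ?_ ?_ <;>
      simp [pullback.condition]
  constructor
  · rintro ⟨l, hl⟩
    exact ⟨pullback.lift ((pullbackLeftPullbackSndIso f a g).hom ≫ l) (pullback.fst _ _)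
      (by rw [Category.assoc, hl, reassoc_of% he]), pullback.lift_snd _ _ _⟩
  · rintro ⟨l, hl⟩
    refine ⟨(pullbackLeftPullbackSndIso f a g).inv ≫ l ≫ pullback.fst y q, ?_⟩
    rw [Category.assoc, Category.assoc, pullback.condition, reassoc_of% hl, ← he, Category.assoc,
      Iso.inv_hom_id_assoc]

theorem isLocalProp_inQ [Mono y] : IsLocalProp (InQ f a q y) := by
  have h := isLocalProp_inY (pullback.snd f a) (pullback.snd y q)
  refine ⟨fun h' g hg => ?_, fun {T'} g {I T} j hj hc hg => ?_⟩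
  · rw [inQ_iff_inY] at hg ⊢
    exact h.comp h' g hg
  · rw [inQ_iff_inY]
    exact h.of_cover g j hj hc fun i => (inQ_iff_inY f a q y _).1 (hg i)

variable {y}

theorem exists_repIdeal_inQ [IsClosedImmersion y] [IsFinite f] [Flat f] {P : Type u} [CommRing P] [IsNoetherianRing P]
    (j : Spec (CommRingCat.of P) ⟶ G) : ∃ c : Ideal P, RepIdeal (InQ f a q y) j c := by
  obtain ⟨c, hc⟩ := exists_ideal_of_finite_flat y (pullback.snd f (j ≫ a)) (bc f a j ≫ q)
  refine ⟨c, fun P' _ φ => Iff.trans ?_ (hc P' φ)⟩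
  let e : pullback (pullback.snd f (j ≫ a)) (sp φ) ≅ pullback f ((sp φ ≫ j) ≫ a) :=
    pullbackLeftPullbackSndIso f (j ≫ a) (sp φ) ≪≫ pullback.congrHom rfl (Category.assoc _ _ _).symm
  have he : e.hom ≫ bc f a (sp φ ≫ j) = pullback.fst _ _ ≫ bc f a j := by
    refine pullback.hom_ext ?_ ?_
    · simp [e]
    · simp [e, pullback.condition_assoc]
  constructor
  · rintro ⟨l, hl⟩
    exact ⟨e.hom ≫ l, ((Category.assoc _ _ _).trans (congrArg (e.hom ≫ ·) hl)).trans
      ((Category.assoc _ _ _).symm.trans ((congrArg (· ≫ q) he).trans (Category.assoc _ _ _)))⟩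
  · rintro ⟨l, hl⟩
    exact ⟨e.inv ≫ l, ((Category.assoc _ _ _).trans (congrArg (e.inv ≫ ·) hl)).trans
      (e.inv_comp_eq.2 ((Category.assoc _ _ _).symm.trans ((congrArg (· ≫ q) he.symm).trans (Category.assoc _ _ _))))⟩

theorem inQ_of_hom {W : Scheme.{u}} (w : W ⟶ X) {T : Scheme.{u}} (g : T ⟶ G) (h : InQ f a q y g) :
    InQ (w ≫ f) a (zb f w a ≫ q) y g := by
  obtain ⟨l, hl⟩ := h
  refine ⟨zb f w (g ≫ a) ≫ l, ?_⟩
  rw [Category.assoc, hl, ← Category.assoc, ← Category.assoc]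
  congr 1
  refine pullback.hom_ext ?_ ?_ <;> simp

/-- Weil restriction of a closed subscheme along a morphism with a directed, fibrewise schematically dense family of
finite flat subschemes. -/
theorem exists_closed_of_dense [IsLocallyNoetherian G] [LocallyOfFiniteType f] [IsClosedImmersion y] [Nonempty κ]
    (hfin : ∀ i, IsFinite (z i ≫ f)) (hflat : ∀ i, Flat (z i ≫ f))
    (hdir : ∀ i i', ∃ k, (∃ w : Z i ⟶ Z k, w ≫ z k = z i) ∧ ∃ w : Z i' ⟶ Z k, w ≫ z k = z i')
    (hdense : FibDense f z) :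
    (∃ (T : Scheme.{u}) (t : T ⟶ G), IsClosedImmersion t ∧
      ∀ ⦃T' : Scheme.{u}⦄ (g : T' ⟶ G), (∃ g' : T' ⟶ T, g' ≫ t = g) ↔ InQ f a q y g) ∧
    (AlgebraicGeometry.IsNoetherian G → ∃ k, ∀ ⦃T : Scheme.{u}⦄ (g : T ⟶ G),
      InQ f a q y g ↔ InQ (z k ≫ f) a (zb f (z k) a ≫ q) y g) := by
  let Pz : κ → ∀ ⦃T : Scheme.{u}⦄, (T ⟶ G) → Prop := fun i => InQ (z i ≫ f) a (zb f (z i) a ≫ q) y
  have hmono : ∀ i k, (∃ w : Z i ⟶ Z k, w ≫ z k = z i) → ∀ ⦃T : Scheme.{u}⦄ (g : T ⟶ G), Pz k g → Pz i g := by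
    rintro i k ⟨w, hw⟩ T g ⟨l, hl⟩
    refine ⟨pullback.map (z i ≫ f) (g ≫ a) (z k ≫ f) (g ≫ a) w (𝟙 _) (𝟙 _)
      (by rw [reassoc_of% hw, Category.comp_id]) (by simp) ≫ l, ?_⟩
    refine ((Category.assoc _ _ _).trans (congrArg (_ ≫ ·) hl)).trans ?_
    refine Eq.trans ?_ (Category.assoc (bc (z i ≫ f) a g) (zb f (z i) a) q)
    refine (congrArg (_ ≫ ·) (Category.assoc _ _ _).symm).trans ((Category.assoc _ _ _).symm.trans ?_)
    refine congrArg (· ≫ q) ?_
    refine pullback.hom_ext ?_ ?_ <;> simp [hw]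
  have chart : ∀ (P : Type u) [CommRing P] [IsNoetherianRing P] (j : Spec (CommRingCat.of P) ⟶ G),
      ∃ I : Ideal P, RepIdeal (InQ f a q y) j I ∧
        ∃ N, ∀ (P' : Type u) [CommRing P'] (φ : P →+* P'), Pz N (sp φ ≫ j) → I ≤ RingHom.ker φ := by
    intro P _ _ j
    have hc' : ∀ i, ∃ c : Ideal P, RepIdeal (Pz i) j c := fun i => by
      haveI := hfin i
      haveI := hflat i
      exact exists_repIdeal_inQ (z i ≫ f) a _ j
    choose c hc using hc'
    obtain ⟨_, ⟨N, rfl⟩, hN⟩ := (wellFounded_gt (α := Ideal P)).has_min (Set.range c) (Set.range_nonempty c)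
    have hle : ∀ i, c i ≤ c N := by
      intro i
      obtain ⟨k, hk, hk'⟩ := hdir i N
      have h1 : ∀ i', (∃ w : Z i' ⟶ Z k, w ≫ z k = z i') → c i' ≤ c k := fun i' hi' =>
        ((hc i' _ (Ideal.Quotient.mk (c k))).1 (hmono i' k hi' _ ((hc k _ _).2 Ideal.mk_ker.ge))).trans
          Ideal.mk_ker.le
      exact (h1 i hk).trans (eq_of_le_of_not_lt (h1 N hk') (hN _ ⟨k, rfl⟩)).ge
    have hP := isLocalProp_inQ f a q y
    refine ⟨c N, fun P' _ φ => ⟨fun h => (hc N P' φ).1 (inQ_of_hom f a q (z N) _ h), fun h => ?_⟩,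
      N, fun P' _ φ h => (hc N P' φ).1 h⟩
    have h0 : InQ f a q y (sp (Ideal.Quotient.mk (c N)) ≫ j) := by
      let g := sp (Ideal.Quotient.mk (c N)) ≫ j
      haveI : IsClosedImmersion (pullback.snd y (bc f a g ≫ q)) := MorphismProperty.pullback_snd _ _ inferInstance
      obtain ⟨l, hl⟩ := isIso_of_dense z f hflat hdense (g ≫ a) (pullback.snd y (bc f a g ≫ q)) fun i => by
        obtain ⟨l, hl⟩ := (hc i _ (Ideal.Quotient.mk (c N))).2 ((hle i).trans Ideal.mk_ker.ge)
        refine ⟨pullback.lift l (zb f (z i) (g ≫ a)) ?_, pullback.lift_snd _ _ _⟩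
        rw [hl, ← Category.assoc, ← Category.assoc]
        congr 1
        refine pullback.hom_ext ?_ ?_ <;> simp [g]
      exact ⟨l ≫ pullback.fst _ _, ((Category.assoc _ _ _).trans (congrArg (l ≫ ·) pullback.condition)).trans
        ((Category.assoc _ _ _).symm.trans ((congrArg (· ≫ bc f a g ≫ q) hl).trans (Category.id_comp _)))⟩
    have := hP.comp (sp (Ideal.Quotient.lift (c N) φ fun x hx => h hx)) _ h0
    rwa [← Category.assoc, sp_comp, Ideal.Quotient.lift_comp_mk] at this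
  have hcov : ∀ U : G.affineOpens, ∃ I : Ideal Γ(G, U.1), RepIdeal (InQ f a q y) U.2.fromSpec I ∧
      ∃ N, ∀ (P' : Type u) [CommRing P'] (φ : Γ(G, U.1) →+* P'), Pz N (sp φ ≫ U.2.fromSpec) → I ≤ RingHom.ker φ :=
    fun U => by
      haveI : IsNoetherianRing Γ(G, U.1) := IsLocallyNoetherian.component_noetherian U
      exact chart _ _
  choose I hI N hN using hcov
  refine ⟨?_, fun hG => ?_⟩
  · obtain ⟨T, t, ht, h, -⟩ := exists_closed (isLocalProp_inQ f a q y) False fun s => by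
      obtain ⟨V, hV, hsV, -⟩ := exists_isAffineOpen_mem_and_subset (X := G) (x := s) (U := ⊤) trivial
      exact ⟨Γ(G, V), hV.fromSpec, inferInstance, hV.range_fromSpec.ge hsV, I ⟨V, hV⟩, hI ⟨V, hV⟩, False.elim⟩
    exact ⟨T, t, ht, h⟩
  · have hUx : ∀ x : G, ∃ U : G.affineOpens, x ∈ U.1 := fun x => by
      obtain ⟨V, hV, hxV, -⟩ := exists_isAffineOpen_mem_and_subset (X := G) (x := x) (U := ⊤) trivial
      exact ⟨⟨V, hV⟩, hxV⟩
    choose U hU using hUx
    obtain ⟨F, hF⟩ := isCompact_univ.elim_finite_subcover (fun x : G => ((U x).1 : Set G))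
      (fun x => (U x).1.isOpen) (fun x _ => Set.mem_iUnion.2 ⟨x, hU x⟩)
    obtain ⟨k, hk⟩ : ∃ k, ∀ x ∈ F, ∀ ⦃T : Scheme.{u}⦄ (g : T ⟶ G), Pz k g → Pz (N (U x)) g := by
      classical
      clear hF
      induction F using Finset.induction_on with
      | empty => exact ⟨Classical.arbitrary κ, fun _ h => absurd h (Finset.notMem_empty _)⟩
      | insert x F hx ih =>
        obtain ⟨k₀, hk₀⟩ := ih
        obtain ⟨k, hk, hk'⟩ := hdir (N (U x)) k₀
        refine ⟨k, fun x' hx' T g hg => ?_⟩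
        rcases Finset.mem_insert.1 hx' with rfl | hx'
        · exact hmono _ _ hk g hg
        · exact hk₀ x' hx' g (hmono _ _ hk' g hg)
    refine ⟨k, fun T g => ⟨inQ_of_hom f a q (z k) g, fun h => ?_⟩⟩
    have hTx : ∀ t : T, ∃ x ∈ F, ∃ (V : T.Opens) (hV : IsAffineOpen V), t ∈ V ∧ V ≤ g ⁻¹ᵁ (U x).1 := fun t => by
      obtain ⟨x, hx, hgt⟩ := Set.mem_iUnion₂.1 (hF (Set.mem_univ (g t)))
      obtain ⟨V, hV, htV, hVU⟩ := exists_isAffineOpen_mem_and_subset (X := T) (x := t) (U := g ⁻¹ᵁ (U x).1) hgt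
      exact ⟨x, hx, V, hV, htV, hVU⟩
    choose x hx V hV htV hVU using hTx
    refine (isLocalProp_inQ f a q y).of_cover g (fun t => (hV t).fromSpec) (fun t => inferInstance)
      (fun t => ⟨t, (hV t).range_fromSpec.ge (htV t)⟩) fun t => ?_
    have e := IsAffineOpen.SpecMap_appLE_fromSpec g (U (x t)).2 (hV t) (hVU t)
    rw [← e]
    refine (hI (U (x t)) _ (g.appLE _ _ (hVU t)).hom).2 (hN (U (x t)) _ _ ?_)
    have h1 := (isLocalProp_inQ (z (N (U (x t))) ≫ f) a (zb f (z (N (U (x t)))) a ≫ q) y).comp (hV t).fromSpec g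
      (hk _ (hx t) g h)
    rwa [← e] at h1

end Weil

end Groth.Agent.WeilRes
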