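import Groth.Agent.WeilResLib.Krull

/-!
# Families of flat algebras which are schematically dense in the fibres
-/

set_option autoImplicit false

universe u

open TensorProduct

namespace Groth.Agent.WeilRes

/-- A jointly injective family stays jointly injective after tensoring with a vector space. -/
theorem eq_zero_of_forall_lTensor {K : Type u} [Field K] {V M : Type u} [AddCommGroup V] [Module K V]
    [AddCommGroup M] [Module K M] {ι : Type u} {N : ι → Type u} [∀ i, AddCommGroup (N i)] [∀ i, Module K (N i)]
    (F : ∀ i, M →ₗ[K] N i) (hF : ∀ x, (∀ i, F i x = 0) → x = 0) (z : V ⊗[K] M)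
    (hz : ∀ i, (F i).lTensor V z = 0) : z = 0 := by
  let b := Module.Free.chooseBasis K V
  refine (TensorProduct.equivFinsuppOfBasisLeft b).injective ?_
  rw [map_zero]
  refine Finsupp.ext fun j => hF _ fun i => ?_
  have key : ∀ w : V ⊗[K] M, TensorProduct.equivFinsuppOfBasisLeft b ((F i).lTensor V w) j =
      F i (TensorProduct.equivFinsuppOfBasisLeft b w j) := by
    intro w
    induction w using TensorProduct.induction_on with
    | zero => simp
    | tmul v x => simp [LinearMap.lTensor_tmul, TensorProduct.equivFinsuppOfBasisLeft_apply_tmul]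
    | add a d ha hd => simp only [map_add, Finsupp.add_apply, ha, hd]
  rw [← key, hz i, map_zero]
  rfl

/-- Joint injectivity passes to field extensions. -/
theorem eq_zero_of_field_ext {R B : Type u} [CommRing R] [CommRing B] [Algebra R B] {ι : Type u} {C : ι → Type u}
    [∀ i, CommRing (C i)] [∀ i, Algebra R (C i)] (φ : ∀ i, B →ₐ[R] C i) (K L : Type u) [Field K] [Field L]
    [Algebra R K] [Algebra R L] [Algebra K L] [IsScalarTower R K L]
    (hK : ∀ z : K ⊗[R] B, (∀ i, Algebra.TensorProduct.map (AlgHom.id R K) (φ i) z = 0) → z = 0)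
    (z : L ⊗[R] B) (hz : ∀ i, Algebra.TensorProduct.map (AlgHom.id R L) (φ i) z = 0) : z = 0 := by
  let F : ∀ i, K ⊗[R] B →ₗ[K] K ⊗[R] C i := fun i =>
    TensorProduct.AlgebraTensorModule.map LinearMap.id (φ i).toLinearMap
  let c := TensorProduct.AlgebraTensorModule.cancelBaseChange R K K L B
  obtain ⟨w, rfl⟩ := c.surjective z
  refine (map_eq_zero_iff c c.injective).2 (eq_zero_of_forall_lTensor F (fun x hx => hK x hx) w fun i => ?_)
  let c' := TensorProduct.AlgebraTensorModule.cancelBaseChange R K K L (C i)
  refine (map_eq_zero_iff c' c'.injective).1 ?_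
  have key : ∀ v, c' ((F i).lTensor L v) = Algebra.TensorProduct.map (AlgHom.id R L) (φ i) (c v) := by
    intro v
    induction v using TensorProduct.induction_on with
    | zero => simp
    | add a d ha hd => simp only [map_add, ha, hd]
    | tmul q y =>
      induction y using TensorProduct.induction_on with
      | zero => simp
      | add a d ha hd => simp only [tmul_add, map_add, ha, hd]
      | tmul r x => simp [c, c', F]
  rw [key]
  exact hz i

variable {P : Type u} [CommRing P] (m : Ideal P)

/-- If maps to flat modules are jointly injective modulo a maximal ideal, their common kernel lies in all powers. -/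
theorem mem_pow_smul_of_family {M : Type u} [AddCommGroup M] [Module P M] {ι : Type u} {N : ι → Type u}
    [∀ i, AddCommGroup (N i)] [∀ i, Module P (N i)] [∀ i, Module.Flat P (N i)] [m.IsMaximal] (f : ∀ i, M →ₗ[P] N i)
    (hf : ∀ z : (P ⧸ m) ⊗[P] M, (∀ i, (f i).lTensor (P ⧸ m) z = 0) → z = 0) {h : M} (hh : ∀ i, f i h = 0) (n : ℕ) :
    h ∈ (m ^ n • ⊤ : Submodule P M) := by
  letI := Ideal.Quotient.field m
  induction n with
  | zero => simp
  | succ n ih =>
    let I : Submodule P P := m ^ n
    let μ : I ⊗[P] M →ₗ[P] M := (TensorProduct.lid P M).toLinearMap ∘ₗ I.subtype.rTensor M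
    obtain ⟨z, rfl⟩ : ∃ z, μ z = h := by
      refine Submodule.smul_induction_on ih (fun r hr x _ => ⟨(⟨r, hr⟩ : I) ⊗ₜ x, by simp [μ]⟩) ?_
      rintro x y ⟨a, rfl⟩ ⟨c, rfl⟩
      exact ⟨a + c, map_add μ a c⟩
    have hz : ∀ i, (f i).lTensor I z = 0 := by
      intro i
      let μ' : I ⊗[P] N i →ₗ[P] N i := (TensorProduct.lid P (N i)).toLinearMap ∘ₗ I.subtype.rTensor (N i)
      have hμ' : Function.Injective μ' := (TensorProduct.lid P (N i)).injective.comp
        (Module.Flat.rTensor_preserves_injective_linearMap _ Subtype.val_injective)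
      refine hμ' ?_
      have hcomm : μ' ∘ₗ (f i).lTensor I = f i ∘ₗ μ := TensorProduct.ext' fun a x => by simp [μ, μ']
      rw [map_zero, ← LinearMap.comp_apply, hcomm, LinearMap.comp_apply, hh i]
    let J : Submodule P I := m • ⊤
    let Q := I ⧸ J
    letI : Module (P ⧸ m) Q := Module.instQuotientIdealSubmoduleHSMulTop I m
    haveI : IsScalarTower P (P ⧸ m) Q := IsScalarTower.of_algebraMap_smul fun r x => by
      obtain ⟨x, rfl⟩ := Submodule.Quotient.mk_surjective _ x
      rfl
    have hQ : ∀ w : Q ⊗[P] M, (∀ i, (f i).lTensor Q w = 0) → w = 0 := by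
      intro w hw
      let c := TensorProduct.AlgebraTensorModule.cancelBaseChange P (P ⧸ m) (P ⧸ m) Q M
      let F : ∀ i, (P ⧸ m) ⊗[P] M →ₗ[P ⧸ m] (P ⧸ m) ⊗[P] N i := fun i =>
        TensorProduct.AlgebraTensorModule.map LinearMap.id (f i)
      obtain ⟨v, rfl⟩ := c.surjective w
      refine (map_eq_zero_iff c c.injective).2 (eq_zero_of_forall_lTensor F (fun x hx => hf x hx) v fun i => ?_)
      let c' := TensorProduct.AlgebraTensorModule.cancelBaseChange P (P ⧸ m) (P ⧸ m) Q (N i)
      refine (map_eq_zero_iff c' c'.injective).1 ?_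
      have key : ∀ w, c' ((F i).lTensor Q w) = (f i).lTensor Q (c w) := by
        intro w
        induction w using TensorProduct.induction_on with
        | zero => simp
        | add a d ha hd => simp only [map_add, ha, hd]
        | tmul q y =>
          induction y using TensorProduct.induction_on with
          | zero => simp
          | add a d ha hd => simp only [tmul_add, map_add, ha, hd]
          | tmul r x => simp [c, c', F]
      rw [key]
      exact hw i
    have hzQ : J.mkQ.rTensor M z = 0 := hQ _ fun i => by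
      rw [← LinearMap.comp_apply, LinearMap.lTensor_comp_rTensor, ← LinearMap.rTensor_comp_lTensor,
        LinearMap.comp_apply, hz i, map_zero]
    obtain ⟨w, rfl⟩ := ((rTensor_exact M (LinearMap.exact_subtype_mkQ J) J.mkQ_surjective) z).1 hzQ
    clear hh hz hzQ ih
    induction w using TensorProduct.induction_on with
    | zero => simp
    | add a d ha hd => rw [map_add, map_add]; exact add_mem ha hd
    | tmul j x =>
      obtain ⟨j, hj⟩ := j
      rw [show μ (J.subtype.rTensor M ((⟨j, hj⟩ : J) ⊗ₜ x)) = (j : P) • x by simp [μ]]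
      refine Submodule.smul_mem_smul ?_ Submodule.mem_top
      have : (j : P) ∈ Submodule.map I.subtype J := ⟨j, hj, rfl⟩
      rw [Submodule.map_smul'', Submodule.map_subtype_top, smul_eq_mul] at this
      rw [pow_succ']
      exact this

/-- An element killed by a fibrewise schematically dense family of flat algebras vanishes, after any base change
to a Noetherian algebra. -/
theorem local_zero_family {R B : Type u} [CommRing R] [CommRing B] [Algebra R B] [Algebra.FiniteType R B]
    {ι : Type u} {C : ι → Type u} [∀ i, CommRing (C i)] [∀ i, Algebra R (C i)] [∀ i, Module.Flat R (C i)]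
    (φ : ∀ i, B →ₐ[R] C i)
    (hdense : ∀ (p : Ideal R) [p.IsPrime] (z : p.ResidueField ⊗[R] B),
      (∀ i, Algebra.TensorProduct.map (AlgHom.id R p.ResidueField) (φ i) z = 0) → z = 0)
    (A : Type u) [CommRing A] [Algebra R A] [IsNoetherianRing A] (h : A ⊗[R] B)
    (hh : ∀ i, Algebra.TensorProduct.map (AlgHom.id A A) (φ i) h = 0) : h = 0 := by
  let Ann : Ideal (A ⊗[R] B) := LinearMap.ker (LinearMap.mulRight (A ⊗[R] B) h)
  suffices hA : Ann = ⊤ by
    have := LinearMap.mem_ker.1 ((Ideal.eq_top_iff_one _).1 hA)
    rwa [LinearMap.mulRight_apply, one_mul] at this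
  by_contra hne
  obtain ⟨q, hq, hqle⟩ := Ideal.exists_le_maximal _ hne
  let p' := q.under A
  let L := Localization.AtPrime p'
  let mL := IsLocalRing.maximalIdeal L
  let K' := p'.ResidueField
  let p := p'.comap (algebraMap R A)
  let ψ : p.ResidueField →+* K' := Ideal.ResidueField.map p p' (algebraMap R A) rfl
  letI : Algebra p.ResidueField K' := ψ.toAlgebra
  haveI : IsScalarTower R p.ResidueField K' := IsScalarTower.of_algebraMap_eq fun r => by
    refine Eq.trans ?_ (Ideal.ResidueField.map_algebraMap p p' (algebraMap R A) rfl r).symm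
    exact IsScalarTower.algebraMap_apply R A K' r
  let f : ∀ i, L ⊗[A] (A ⊗[R] B) →ₗ[L] L ⊗[A] (A ⊗[R] C i) := fun i =>
    TensorProduct.AlgebraTensorModule.map LinearMap.id
      (Algebra.TensorProduct.map (AlgHom.id A A) (φ i)).toLinearMap
  have hjoint : ∀ z : (L ⧸ mL) ⊗[L] (L ⊗[A] (A ⊗[R] B)), (∀ i, (f i).lTensor (L ⧸ mL) z = 0) → z = 0 := by
    intro z hz
    let c : (L ⧸ mL) ⊗[L] (L ⊗[A] (A ⊗[R] B)) ≃ₗ[L] K' ⊗[R] B :=
      (TensorProduct.AlgebraTensorModule.cancelBaseChange A L L (L ⧸ mL) (A ⊗[R] B)).trans
        (TensorProduct.AlgebraTensorModule.cancelBaseChange R A L (L ⧸ mL) B)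
    refine (map_eq_zero_iff c c.injective).1
      (eq_zero_of_field_ext φ p.ResidueField K' (fun w hw => hdense p w hw) _ fun i => ?_)
    let c' : (L ⧸ mL) ⊗[L] (L ⊗[A] (A ⊗[R] C i)) ≃ₗ[L] K' ⊗[R] C i :=
      (TensorProduct.AlgebraTensorModule.cancelBaseChange A L L (L ⧸ mL) (A ⊗[R] C i)).trans
        (TensorProduct.AlgebraTensorModule.cancelBaseChange R A L (L ⧸ mL) (C i))
    have key : ∀ v, c' ((f i).lTensor (L ⧸ mL) v) = Algebra.TensorProduct.map (AlgHom.id R K') (φ i) (c v) := by
      intro v
      induction v using TensorProduct.induction_on with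
      | zero => simp
      | add a d ha hd => simp only [map_add, ha, hd]
      | tmul r y =>
        induction y using TensorProduct.induction_on with
        | zero => simp
        | add a d ha hd => simp only [tmul_add, map_add, ha, hd]
        | tmul l w =>
          induction w using TensorProduct.induction_on with
          | zero => simp
          | add a d ha hd => simp only [tmul_add, map_add, ha, hd]
          | tmul a x => simp [c, c', f]; rfl
    rw [← key, hz i, map_zero]
  obtain ⟨t, ht, hth⟩ := exists_kill_of_mem_pow (A ⊗[R] B) h q fun n =>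
    mem_pow_smul_of_family mL f hjoint (h := (1 : L) ⊗ₜ[A] h) (fun i => by
      show (1 : L) ⊗ₜ[A] (Algebra.TensorProduct.map (AlgHom.id A A) (φ i) h) = 0
      rw [hh i, tmul_zero]) n
  exact ht (hqle hth)

end Groth.Agent.WeilRes
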